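import Groth.Prelude.Def_W4bk4grossh1223Act
import Mathlib.RingTheory.IntegralClosure.IntegrallyClosed
import Mathlib.RingTheory.Flat.Basic
import Mathlib.RingTheory.Localization.FractionRing
import Mathlib.RingTheory.IntegralClosure.IsIntegral.Basic

/-!
# Invariants of a normal domain are normal
-/

set_option autoImplicit false

universe u

open CategoryTheory AlgebraicGeometry
open scoped TensorProduct

namespace GrothLib.InvNormal27

theorem isIntegrallyClosed_of_saturated' {R A : Type u} [CommRing R] [IsDomain R] [CommRing A]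
    [IsDomain A] [IsIntegrallyClosed A] (ι : R →+* A) (hι : Function.Injective ι)
    (hsat : ∀ (a b : R) (y : A), b ≠ 0 → y * ι b = ι a → ∃ z : R, ι z = y) : IsIntegrallyClosed R := by
  rw [isIntegrallyClosed_iff (FractionRing R)]
  intro x hx
  obtain ⟨a, b, hb, rfl⟩ := IsFractionRing.div_surjective (A := R) x
  have hb0 : b ≠ 0 := nonZeroDivisors.ne_zero hb
  have hg : Function.Injective ((algebraMap A (FractionRing A)).comp ι) :=
    (IsFractionRing.injective A _).comp hι
  have hlift : ∀ z : R, IsFractionRing.lift hg (algebraMap R (FractionRing R) z) =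
      algebraMap A (FractionRing A) (ι z) := fun z => IsFractionRing.lift_algebraMap hg z
  have hint : IsIntegral A (algebraMap A (FractionRing A) (ι a) / algebraMap A (FractionRing A) (ι b)) := by
    obtain ⟨p, hp, hpx⟩ := hx
    refine ⟨p.map ι, hp.map _, ?_⟩
    have := congrArg (IsFractionRing.lift hg) hpx
    rw [map_zero, Polynomial.hom_eval₂, map_div₀, hlift, hlift,
      show (IsFractionRing.lift hg).comp (algebraMap R (FractionRing R)) =
        (algebraMap A (FractionRing A)).comp ι from RingHom.ext hlift] at this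
    rw [Polynomial.eval₂_map]
    exact this
  obtain ⟨y, hy⟩ := IsIntegrallyClosed.isIntegral_iff.1 hint
  have hb1 : algebraMap A (FractionRing A) (ι b) ≠ 0 := fun e =>
    hb0 (hg (e.trans (RingHom.map_zero _).symm))
  rw [eq_div_iff hb1, ← map_mul] at hy
  obtain ⟨z, rfl⟩ := hsat a b y hb0 (IsFractionRing.injective A _ hy)
  refine ⟨z, ?_⟩
  rw [eq_div_iff (IsFractionRing.to_map_ne_zero_of_mem_nonZeroDivisors hb), ← map_mul]
  exact congrArg _ (hι (by rw [map_mul]; exact IsFractionRing.injective A _ hy))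

theorem isIntegrallyClosed_of_saturated {k : Type u} [CommRing k] {A : Type u} [CommRing A] [IsDomain A]
    [Algebra k A] [IsIntegrallyClosed A] (S : Subalgebra k A)
    (hsat : ∀ a ∈ S, ∀ b ∈ S, b ≠ 0 → ∀ y : A, y * b = a → y ∈ S) : IsIntegrallyClosed ↥S :=
  isIntegrallyClosed_of_saturated' (R := ↥S) S.val.toRingHom Subtype.val_injective
    fun a b y hb h => ⟨⟨y, hsat a.1 a.2 b.1 b.2 (fun e => hb (Subtype.ext e)) y h⟩, rfl⟩

variable {k : Type u} [Field k] {G H : Over (Spec (CommRingCat.of k))} [GrpObj G] [GrpObj H]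

/-- The invariants are saturated in a domain. -/
theorem mem_fixedSubalgebra_of_mul {A : Type u} [CommRing A] [IsDomain A] [Algebra k A]
    (ρ : VecGrp.GMod G A) (hρ : ρ.IsMult) (i : H ⟶ G) {a b y : A} (ha : a ∈ ρ.fixedSubalgebra hρ i)
    (hb : b ∈ ρ.fixedSubalgebra hρ i) (hb0 : b ≠ 0) (h : y * b = a) : y ∈ ρ.fixedSubalgebra hρ i := by
  intro B _ _ p
  have hinj : Function.Injective (LinearMap.lTensor B (LinearMap.mulRight k b)) :=
    Module.Flat.lTensor_preserves_injective_linearMap _ fun x x' hxx => mul_right_cancel₀ hb0 hxx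
  have hmul : ∀ z : B ⊗[k] A, LinearMap.lTensor B (LinearMap.mulRight k b) z = z * ((1 : B) ⊗ₜ[k] b) := by
    intro z
    induction z using TensorProduct.induction_on with
    | zero => rw [map_zero, zero_mul]
    | tmul c x => rw [LinearMap.lTensor_tmul, LinearMap.mulRight_apply, Algebra.TensorProduct.tmul_mul_tmul,
        mul_one]
    | add u v hu hv => rw [map_add, hu, hv, add_mul]
  refine hinj ?_
  rw [hmul, hmul, Algebra.TensorProduct.tmul_mul_tmul, _root_.mul_one, h]
  have e := (hρ B (p ≫ i)).1 ((1 : B) ⊗ₜ[k] y) ((1 : B) ⊗ₜ[k] b)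
  rw [hb B p, Algebra.TensorProduct.tmul_mul_tmul, _root_.mul_one, h, ha B p] at e
  exact e.symm

end GrothLib.InvNormal27
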